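import Cfsg.Agent.H15T.U4
import Cfsg.Agent.H15T.TI2
import Cfsg.Agent.H10.Comp
import Cfsg.Agent.H11.Count
import Cfsg.Agent.H1.Quaternion
import Cfsg.Agent.S0215
import Cfsg.Prelude.Def_Balance

/-! Semisimple groups of 2-rank 1. -/

set_option autoImplicit false
set_option linter.style.haveILetI false

namespace Cfsg.Agent.H15T

open Subgroup Cfsg.Agent.H20 Cfsg.Agent.H21 Cfsg.Agent.BG

variable {G : Type*} [Group G] [Finite G]

/-- no two distinct commuting involutions -/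
def R1 (X : Subgroup G) : Prop :=
  ∀ a ∈ X, ∀ b ∈ X, a * a = 1 → b * b = 1 → a * b = b * a → a = 1 ∨ b = 1 ∨ a = b

omit [Finite G] in
theorem cl2 {a b : G} (a2 : a * a = 1) (b2 : b * b = 1) (hab : a * b = b * a) :
    ∀ x ∈ closure ({a, b} : Set G), x * x = 1 ∧ a * x = x * a ∧ b * x = x * b := by
  intro x hx
  induction hx using closure_induction with
  | mem x hx =>
    rcases hx with rfl | rfl
    exacts [⟨a2, rfl, hab.symm⟩, ⟨b2, hab, rfl⟩]
  | one => simp
  | mul x y hx hy ihx ihy =>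
    have hxy : x * y = y * x := by
      clear ihy
      induction hy using closure_induction with
      | mem y hy => rcases hy with rfl | rfl; exacts [ihx.2.1.symm, ihx.2.2.symm]
      | one => simp
      | mul y z _ _ h1 h2 => rw [← mul_assoc, h1, mul_assoc, h2, mul_assoc]
      | inv y _ h1 => exact (Commute.inv_right h1)
    refine ⟨?_, ?_, ?_⟩
    · calc x * y * (x * y) = x * (y * x) * y := by group
        _ = (x * x) * (y * y) := by rw [← hxy]; group
        _ = 1 := by rw [ihx.1, ihy.1, one_mul]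
    · rw [← mul_assoc, ihx.2.1, mul_assoc, ihy.2.1, mul_assoc]
    · rw [← mul_assoc, ihx.2.2, mul_assoc, ihy.2.2, mul_assoc]
  | inv x _ ih => rw [inv_self ih.1]; exact ih

theorem r1_iff {X : Subgroup G} : PRankLE 2 1 X ↔ R1 X := by
  classical
  constructor
  · intro h a ha b hb a2 b2 hab
    by_contra hn
    push Not at hn
    set a' : X := ⟨a, ha⟩
    set b' : X := ⟨b, hb⟩
    have k := cl2 (a := a') (b := b') (Subtype.ext a2) (Subtype.ext b2) (Subtype.ext hab)
    have k2 : ∀ x ∈ closure ({a', b'} : Set X), ∀ y ∈ closure ({a', b'} : Set X), x * y = y * x := by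
      intro x hx y hy
      have h3 := inv_self (k _ (mul_mem hx hy)).1
      rw [mul_inv_rev, inv_self (k x hx).1, inv_self (k y hy).1] at h3
      exact h3.symm
    have h1 := h (closure {a', b'}) ⟨⟨fun x y => Subtype.ext (k2 x x.2 y y.2)⟩⟩
      (fun x hx => by rw [pow_two]; exact (k x hx).1)
    have h2 : (↑({1, a', b'} : Finset X) : Set X) ⊆ (closure ({a', b'} : Set X) : Set X) := by
      intro x hx
      simp only [Finset.coe_insert, Finset.coe_singleton, Set.mem_insert_iff, Set.mem_singleton_iff] at hx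
      rcases hx with rfl | rfl | rfl
      exacts [one_mem _, subset_closure (by simp), subset_closure (by simp)]
    have h3 := Set.ncard_le_ncard h2 (Set.toFinite _)
    rw [Set.ncard_coe_finset, Finset.card_insert_of_notMem, Finset.card_pair, ← Nat.card_coe_set_eq] at h3
    · have : Nat.card ((closure ({a', b'} : Set X) : Set X)) = ♯(closure ({a', b'} : Set X)) := rfl
      omega
    · exact fun e => hn.2.2 (congrArg Subtype.val e)
    · simp only [Finset.mem_insert, Finset.mem_singleton, not_or]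
      exact ⟨fun e => hn.1 (congrArg Subtype.val e).symm, fun e => hn.2.1 (congrArg Subtype.val e).symm⟩
  · intro h A hA hA2
    by_contra hn
    haveI := Fintype.ofFinite A
    rw [not_le, Nat.card_eq_fintype_card, pow_one, Fintype.two_lt_card_iff] at hn
    have k : ∀ a b : A, a = 1 ∨ b = 1 ∨ a = b := by
      intro a b
      have := h a.1.1 a.1.2 b.1.1 b.1.2
        (by have := hA2 a a.2; rw [pow_two] at this; exact congrArg Subtype.val this)
        (by have := hA2 b b.2; rw [pow_two] at this; exact congrArg Subtype.val this)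
        (congrArg (fun x : A => (x.1.1 : G)) (hA.is_comm.comm a b))
      rcases this with e | e | e
      exacts [Or.inl (Subtype.ext (Subtype.ext e)), Or.inr (Or.inl (Subtype.ext (Subtype.ext e))),
        Or.inr (Or.inr (Subtype.ext (Subtype.ext e)))]
    obtain ⟨a, b, c, hab, hac, hbc⟩ := hn
    rcases k a b with e | e | e <;> rcases k a c with e' | e' | e' <;> rcases k b c with e'' | e'' | e'' <;>
      simp_all

theorem ex_inv {A : Subgroup G} (hA : IsPGroup 2 A) (h : A ≠ ⊥) : ∃ x ∈ A, x ≠ 1 ∧ x * x = 1 := by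
  have hd : 2 ∣ ♯A := by
    obtain ⟨n, hn⟩ := IsPGroup.iff_card.1 hA
    rw [hn]
    cases n with
    | zero => exact absurd (card_eq_one.1 (by simpa using hn)) h
    | succ n => exact Dvd.intro_left _ (pow_succ 2 n).symm
  obtain ⟨x, hx, ho⟩ := exists_prime_order_mem Nat.prime_two hd
  refine ⟨x, hx, fun e => by rw [e, orderOf_one] at ho; omega, ?_⟩
  rw [← pow_two, ← ho, pow_orderOf_eq_one]

theorem ex_cmod {T A B : Subgroup G} (hT : IsPGroup 2 T) (hBT : B ≤ T) (hA : T ≤ N⟦A⟧) (hB : T ≤ N⟦B⟧)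
    (hn : ¬ B ≤ A) : ∃ x ∈ B, x ∉ A ∧ x * x ∈ A ∧ ∀ t ∈ T, t * x * t⁻¹ * x⁻¹ ∈ A := by
  have h1 := inf_cent_ne_bot_of_pgroup (quo_isPGroup (hT.to_le hBT) A) (quo_isPGroup hT A) (quo_norm A hB)
    (fun e => hn ((quo_eq_bot_iff (hBT.trans hA)).1 e))
  obtain ⟨_, ⟨hy, hy'⟩, y1, y2⟩ := ex_inv ((quo_isPGroup (hT.to_le hBT) A).to_le inf_le_left) h1
  obtain ⟨x, hx, hxn, rfl⟩ := mem_quo.1 hy
  refine ⟨x, hx, fun e => y1 (cos_eq_one e), ?_, fun t ht => ?_⟩
  · rw [← cos_mul hxn hxn] at y2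
    exact (cos_eq_one_iff (mul_mem hxn hxn)).1 y2
  · have h2 := mem_centralizer_iff.1 hy' _ (cos_mem_quo ht)
    have htn := hA ht
    refine (cos_eq_one_iff (mul_mem (mul_mem (mul_mem htn hxn) (inv_mem htn)) (inv_mem hxn))).1 ?_
    rw [cos_mul (mul_mem (mul_mem htn hxn) (inv_mem htn)) (inv_mem hxn), cos_conj htn hxn, cos_inv hxn, h2]
    group

theorem cyc_of_uniq {R : Subgroup G} (hR : IsPGroup 2 R) (hc : ∀ a ∈ R, ∀ b ∈ R, a * b = b * a) {z : G}
    (hu : ∀ a ∈ R, a * a = 1 → a = 1 ∨ a = z) : IsCyclic R := by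
  rcases H1.isCyclic_or_quaternion hR (fun x y hx hy => by
    have x2 : (x : G) * x = 1 := by
      have := pow_orderOf_eq_one x
      rw [hx, pow_two] at this
      exact congrArg Subtype.val this
    have x1 : (x : G) ≠ 1 := fun e => by
      have : x = 1 := Subtype.ext e
      rw [this, orderOf_one] at hx; omega
    have y2 : (y : G) * y = 1 := by rw [pow_two] at hy; exact congrArg Subtype.val hy
    rcases hu y y.2 y2 with e | e
    · have : y = 1 := Subtype.ext e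
      rw [this]; exact one_mem _
    · have : y = x := Subtype.ext (e.trans ((hu x x.2 x2).resolve_left x1).symm)
      rw [this]; exact mem_zpowers x) with h | ⟨-, n, hn, ⟨e⟩⟩
  · exact h
  exfalso
  have h1 : e.symm (.a 1) * e.symm (.xa 0) = e.symm (.xa 0) * e.symm (.a 1) :=
    Subtype.ext (hc _ (e.symm _).2 _ (e.symm _).2)
  rw [← map_mul, ← map_mul, e.symm.injective.eq_iff, QuaternionGroup.a_mul_xa, QuaternionGroup.xa_mul_a,
    QuaternionGroup.xa.injEq] at h1
  have h2 : ((2 : ℕ) : ZMod (2 * 2 ^ n)) = 0 := by push_cast; linear_combination -h1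
  have h3 := Nat.le_of_dvd two_pos ((ZMod.natCast_eq_zero_iff _ _).1 h2)
  have : 2 ≤ 2 ^ n := by
    calc 2 = 2 ^ 1 := rfl
      _ ≤ 2 ^ n := Nat.pow_le_pow_right two_pos hn
  omega

/-- a normal subgroup `S` of rank `≥ 2` of a 2-group `T` without `T`-invariant four-group -/
theorem maxclass {T S : Subgroup G} (hT : IsPGroup 2 T) (hST : S ≤ T) (hTS : T ≤ N⟦S⟧) (hS : ¬ R1 S)
    (NF : ∀ z ∈ S, ∀ x ∈ S, z * z = 1 → x * x = 1 → z ≠ 1 → x ≠ 1 → x ≠ z → (∀ t ∈ T, t * z = z * t) →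
      (∀ t ∈ T, t * x * t⁻¹ = x ∨ t * x * t⁻¹ = z * x) → False) :
    ∃ (R : Subgroup G) (z y : G), R ≤ S ∧ T ≤ N⟦R⟧ ∧ R.relIndex S = 2 ∧ y ∈ R ∧ y * y = z ∧ z ≠ 1 ∧ z * z = 1 ∧
      (∀ t ∈ T, t * z = z * t) ∧ (∀ a ∈ R, a * a = 1 → a = 1 ∨ a = z) ∧
      (∀ t ∈ T, t * y * t⁻¹ = y ∨ t * y * t⁻¹ = y⁻¹) ∧ (∀ s ∈ S, s ∉ R → s * y * s⁻¹ = y⁻¹) ∧
      (∀ g, g * y * g⁻¹ = y → ∀ d ∈ R, g * d * g⁻¹ = d⁻¹ → d = 1 ∨ d = z) ∧ ∃ s ∈ S, s ∉ R ∧ s * s = 1 := by
  obtain ⟨R, -, ⟨hRS, hTR, hRc⟩, hmax'⟩ := Finite.exists_le_maximal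
    (p := fun R : Subgroup G => R ≤ S ∧ T ≤ N⟦R⟧ ∧ ∀ a ∈ R, ∀ b ∈ R, a * b = b * a) (a := ⊥)
    ⟨bot_le, by rw [norm_bot]; exact le_top, fun a ha b _ => by rw [mem_bot.1 ha]; simp⟩
  have hmax : ∀ R' : Subgroup G, (R' ≤ S ∧ T ≤ N⟦R'⟧ ∧ ∀ a ∈ R', ∀ b ∈ R', a * b = b * a) → R ≤ R' → R' ≤ R :=
    fun R' h h' => hmax' h h'
  have hsc : ∀ x ∈ S, (∀ r ∈ R, r * x = x * r) → x ∈ R := by
    by_contra hn
    push Not at hn
    obtain ⟨x0, hx0, hc0, hx0R⟩ := hn
    obtain ⟨x, hx, hxR, x2, hxT⟩ := ex_cmod (A := R) (B := S ⊓ C⟦R⟧) hT (inf_le_left.trans hST) hTR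
      (norm_inf_cent hTS hTR) (fun h => hx0R (h ⟨hx0, mem_centralizer_iff.2 hc0⟩))
    have hxc : zpowers x ≤ C⟦R⟧ := zpowers_le.2 hx.2
    have h1 := hmax (R ⊔ zpowers x) ⟨sup_le hRS (zpowers_le.2 hx.1), fun t ht => mem_norm_of_cj_le ?_, ?_⟩
      le_sup_left
    · exact hxR (h1 (mem_sup_right (mem_zpowers x)))
    · rw [cj_sup, cj_eq_of_mem_norm (hTR ht), cj_zpowers]
      refine sup_le le_sup_left (zpowers_le.2 ?_)
      have e : t * x * t⁻¹ = t * x * t⁻¹ * x⁻¹ * x := by group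
      rw [e]
      exact mul_mem (mem_sup_left (hxT t ht)) (mem_sup_right (mem_zpowers x))
    · have h2 : R ⊔ zpowers x ≤ C⟦R ⊔ zpowers x⟧ := by
        refine sup_le (le_centralizer_iff.1 (sup_le (fun a ha => mem_centralizer_iff.2 fun b hb => hRc b hb a ha) hxc))
          (le_centralizer_iff.1 (sup_le (le_centralizer_iff.1 hxc) (comm_le_cent (comm_zpowers x))))
      exact fun a ha b hb => mem_centralizer_iff.1 (h2 hb) a ha
  have hR2 : IsPGroup 2 R := hT.to_le (hRS.trans hST)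
  let Om : Subgroup G :=
    { carrier := {r | r ∈ R ∧ r * r = 1}
      one_mem' := ⟨R.one_mem, one_mul 1⟩
      mul_mem' := by
        rintro a b ⟨ha, a2⟩ ⟨hb, b2⟩
        refine ⟨R.mul_mem ha hb, ?_⟩
        calc a * b * (a * b) = a * (b * a) * b := by group
          _ = (a * a) * (b * b) := by rw [← hRc a ha b hb]; group
          _ = 1 := by rw [a2, b2, one_mul]
      inv_mem' := by
        rintro a ⟨ha, a2⟩
        exact ⟨R.inv_mem ha, by rw [inv_self a2, a2]⟩ }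
  have hOR : Om ≤ R := fun r hr => hr.1
  have hTO : T ≤ N⟦Om⟧ := fun t ht => mem_norm_of_forall fun r hr => ⟨nconj (hTR ht) hr.1, by
    calc t * r * t⁻¹ * (t * r * t⁻¹) = t * (r * r) * t⁻¹ := by group
      _ = 1 := by rw [hr.2]; group⟩
  unfold R1 at hS
  push Not at hS
  obtain ⟨a, ha, b, hb, a2, b2, hab, a1, b1, hne⟩ := hS
  have hR1 : R ≠ ⊥ := by
    intro e
    have := hsc a ha (fun r hr => by rw [e, mem_bot] at hr; rw [hr]; simp)
    rw [e, mem_bot] at this
    exact a1 this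
  have hO1 : Om ≠ ⊥ := by
    obtain ⟨r, hr, r1, r2⟩ := ex_inv hR2 hR1
    exact fun e => r1 (mem_bot.1 (e ▸ (⟨hr, r2⟩ : r ∈ Om)))
  obtain ⟨z, ⟨⟨hzR, z2⟩, hzT⟩, z1⟩ := ex_ne (inf_cent_ne_bot_of_pgroup (hR2.to_le hOR) hT hTO hO1)
  have hzT' : ∀ t ∈ T, t * z = z * t := mem_centralizer_iff.1 hzT
  have hoz : orderOf z = 2 := orderOf_eq_prime (by rw [pow_two, z2]) z1
  have hmz : ∀ c, c ∈ zpowers z → c = 1 ∨ c = z := by
    classical
    intro c hc
    rw [mem_zpowers_iff_mem_range_orderOf, hoz] at hc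
    simp only [Finset.mem_image, Finset.mem_range] at hc
    obtain ⟨k, hk, e⟩ := hc
    interval_cases k
    · exact Or.inl (by simpa using e.symm)
    · exact Or.inr (by simpa using e.symm)
  have hu : ∀ r ∈ R, r * r = 1 → r = 1 ∨ r = z := by
    intro r hr r2
    refine hmz r ?_
    by_contra hn
    obtain ⟨x, hx, hxz, -, hxT⟩ := ex_cmod (A := zpowers z) (B := Om) hT ((hOR.trans hRS).trans hST)
      ((le_centralizer_iff.1 (zpowers_le.2 hzT)).trans (centralizer_le_normalizer _)) hTO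
      (fun h => hn (h ⟨hr, r2⟩))
    refine NF z (hRS hzR) x (hRS hx.1) z2 hx.2 z1 (fun e => hxz (e ▸ one_mem _))
      (fun e => hxz (e ▸ mem_zpowers z)) hzT' fun t ht => ?_
    rcases hmz _ (hxT t ht) with e | e
    · exact Or.inl (mul_inv_eq_one.1 e)
    · exact Or.inr (by rw [← e]; group)
  obtain ⟨s, hs, hsR, s2⟩ : ∃ s ∈ S, s ∉ R ∧ s * s = 1 := by
    by_cases haR : a ∈ R
    · refine ⟨b, hb, fun hbR => hne ?_, b2⟩
      rw [(hu a haR a2).resolve_left a1, (hu b hbR b2).resolve_left b1]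
    · exact ⟨a, ha, haR, a2⟩
  have h4 : ∀ d ∈ R, d * d ≠ 1 → ∃ k : ℕ, d ^ k * d ^ k = z := by
    intro d hd d2
    obtain ⟨n, hn⟩ := (IsPGroup.iff_orderOf.1 hR2) ⟨d, hd⟩
    rw [← orderOf_coe] at hn
    simp only at hn
    match n, hn with
    | 0, hn => exact absurd (by rw [(orderOf_eq_one_iff (x := d)).1 (by simpa using hn)]; simp) d2
    | 1, hn => exact absurd (by rw [← pow_two, ← pow_one 2, ← hn, pow_orderOf_eq_one]) d2
    | n + 2, hn =>
      refine ⟨2 ^ n, (hu _ (mul_mem (pow_mem hd _) (pow_mem hd _)) ?_).resolve_left fun e => ?_⟩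
      · rw [← pow_add, ← pow_add, ← pow_orderOf_eq_one d, hn]; congr 1; ring
      · rw [← pow_add] at e
        have := Nat.le_of_dvd (by positivity) (orderOf_dvd_of_pow_eq_one e)
        rw [hn, pow_add] at this
        have : 0 < 2 ^ n := by positivity
        omega
  obtain ⟨y, hyR, y2⟩ : ∃ y ∈ R, y * y = z := by
    by_contra hn
    push Not at hn
    refine hsR (hsc s hs fun r hr => ?_)
    by_cases r2 : r * r = 1
    · rcases hu r hr r2 with e | e
      · rw [e]; simp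
      · rw [e, hzT' s (hST hs)]
    · obtain ⟨k, hk⟩ := h4 r hr r2
      exact absurd hk (hn _ (pow_mem hr k))
  have hy4 : ∀ e ∈ R, e * e = z → e = y ∨ e = y⁻¹ := by
    intro e he e2
    rcases hu (e * y) (mul_mem he hyR) (by
      calc e * y * (e * y) = e * (y * e) * y := by group
        _ = (e * e) * (y * y) := by rw [← hRc e he y hyR]; group
        _ = 1 := by rw [e2, y2, z2]) with h | h
    · exact Or.inr (eq_inv_of_mul_eq_one_left h)
    · exact Or.inl (mul_right_cancel (h.trans y2.symm))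
  have hTy : ∀ t ∈ T, t * y * t⁻¹ = y ∨ t * y * t⁻¹ = y⁻¹ := fun t ht => hy4 _ (nconj (hTR ht) hyR) (by
    calc t * y * t⁻¹ * (t * y * t⁻¹) = t * (y * y) * t⁻¹ := by group
      _ = z := by rw [y2, hzT' t ht]; group)
  have INV : ∀ g, g * y * g⁻¹ = y → ∀ d ∈ R, g * d * g⁻¹ = d⁻¹ → d = 1 ∨ d = z := by
    intro g hg d hd hgd
    refine hu d hd ?_
    by_contra d2
    obtain ⟨k, hk⟩ := h4 d hd d2
    have h1 : g * d ^ k * g⁻¹ = (d ^ k)⁻¹ := by rw [← conj_pow, hgd, inv_pow]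
    have h2 : g * d ^ k * g⁻¹ = d ^ k := by
      rcases hy4 _ (pow_mem hd k) hk with e | e
      · rw [e, hg]
      · rw [e, ← conj_inv, hg]
    apply z1
    rw [← hk]
    nth_rewrite 1 [← h2]
    rw [h1, inv_mul_cancel]
  have hCy : ∀ x ∈ S, x * y * x⁻¹ = y → x ∈ R := by
    by_contra hn
    push Not at hn
    obtain ⟨x0, hx0, hc0, hx0R⟩ := hn
    have hTY : T ≤ N⟦zpowers y⟧ := fun t ht => mem_norm_of_cj_le (by
      rw [cj_zpowers, zpowers_le]
      rcases hTy t ht with e | e <;> rw [e]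
      exacts [mem_zpowers y, inv_mem (mem_zpowers y)])
    obtain ⟨x, hx, hxR, x2, hxT⟩ := ex_cmod (A := R) (B := S ⊓ C⟦zpowers y⟧) hT (inf_le_left.trans hST) hTR
      (norm_inf_cent hTS hTY) (fun h => hx0R (h ⟨hx0, mem_centralizer_iff.2 fun g hg => by
          obtain ⟨k, rfl⟩ := mem_zpowers_iff.1 hg
          exact (Commute.zpow_left (by
            change y * x0 = x0 * y
            calc y * x0 = x0 * y * x0⁻¹ * x0 := by rw [hc0]
              _ = x0 * y := by group) k)⟩))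
    have hxy : x * y * x⁻¹ = y := by
      rw [← mem_centralizer_iff.1 hx.2 y (mem_zpowers y)]; group
    have hxT' := hST hx.1
    have hal : ∀ r ∈ R, x * r * x⁻¹ = r ∨ x * r * x⁻¹ = z * r := by
      intro r hr
      have hr' := nconj (hTR hxT') hr
      rcases INV x hxy (x * r * x⁻¹ * r⁻¹) (mul_mem hr' (inv_mem hr)) (by
        calc x * (x * r * x⁻¹ * r⁻¹) * x⁻¹ = (x * x * r) * (x * x)⁻¹ * (x * r * x⁻¹)⁻¹ := by group
          _ = _ := by rw [hRc _ x2 r hr]; group) with e | e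
      · exact Or.inl (mul_inv_eq_one.1 e)
      · exact Or.inr (by rw [← e]; group)
    obtain ⟨⟨ρ, hρ⟩, hgen⟩ := (cyc_of_uniq hR2 hRc hu).exists_generator
    have hgen' : ∀ r ∈ R, ∃ k : ℤ, ρ ^ k = r := fun r hr => by
      obtain ⟨k, hk⟩ := mem_zpowers_iff.1 (hgen ⟨r, hr⟩)
      exact ⟨k, congrArg Subtype.val hk⟩
    have hxρ : x * ρ * x⁻¹ = z * ρ := (hal ρ hρ).resolve_left fun e => hxR (hsc x hx.1 fun r hr => by
      obtain ⟨k, rfl⟩ := hgen' r hr
      have : x * ρ ^ k * x⁻¹ = ρ ^ k := by rw [← conj_zpow, e]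
      calc ρ ^ k * x = x * ρ ^ k * x⁻¹ * x := by rw [this]
        _ = x * ρ ^ k := by group)
    obtain ⟨r0, hr0, e0⟩ : ∃ r0 ∈ R, r0 * r0 = x * x := by
      obtain ⟨k, hk⟩ := hgen' _ x2
      rcases Int.even_or_odd' k with ⟨j, rfl | rfl⟩
      · exact ⟨ρ ^ j, zpow_mem hρ j, by rw [← hk, ← zpow_add, two_mul]⟩
      · exfalso
        have hc : Commute z ρ := hRc z hzR ρ hρ
        have h1 : x * ρ ^ (2 * j + 1) * x⁻¹ = z * ρ ^ (2 * j + 1) := by
          rw [← conj_zpow, hxρ, hc.mul_zpow, zpow_add, zpow_mul, zpow_two, z2]; simp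
        rw [hk] at h1
        apply z1
        calc z = z * (x * x) * (x * x)⁻¹ := by group
          _ = 1 := by rw [← h1]; group
    obtain ⟨r, hr, er⟩ : ∃ r ∈ R, r * x * (r * x) = 1 := by
      have k : ∀ r ∈ R, r * x * (r * x) = r * (x * r * x⁻¹) * (r0 * r0) := fun r _ => by rw [e0]; group
      rcases hal _ (inv_mem hr0) with e | e
      · exact ⟨r0⁻¹, inv_mem hr0, by rw [k _ (inv_mem hr0), e]; group⟩
      · refine ⟨y * r0⁻¹, mul_mem hyR (inv_mem hr0), ?_⟩
        rw [k _ (mul_mem hyR (inv_mem hr0))]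
        calc y * r0⁻¹ * (x * (y * r0⁻¹) * x⁻¹) * (r0 * r0)
            = y * (r0⁻¹ * ((x * y * x⁻¹) * z)) * (z⁻¹ * (x * r0⁻¹ * x⁻¹)) * (r0 * r0) := by group
          _ = 1 := by
            rw [hxy, e, hRc _ (inv_mem hr0) _ (mul_mem hyR hzR)]
            calc _ = (y * y) * z := by group
              _ = 1 := by rw [y2, z2]
    have hx'R : r * x ∉ R := fun h => hxR (by simpa using mul_mem (inv_mem hr) h)
    refine NF z (hRS hzR) (r * x) (mul_mem (hRS hr) hx.1) z2 er z1 (fun e => hx'R (e ▸ one_mem _))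
      (fun e => hx'R (e ▸ hzR)) hzT' fun t ht => ?_
    have hd : t * (r * x) * t⁻¹ * (r * x)⁻¹ ∈ R := by
      have e : t * (r * x) * t⁻¹ * (r * x)⁻¹ = (t * r * t⁻¹) * (t * x * t⁻¹ * x⁻¹) * r⁻¹ := by group
      rw [e]
      exact mul_mem (mul_mem (nconj (hTR ht) hr) (hxT t ht)) (inv_mem hr)
    rcases INV (r * x) (by
      calc r * x * y * (r * x)⁻¹ = r * (x * y * x⁻¹) * r⁻¹ := by group
        _ = y := by rw [hxy, hRc r hr y hyR]; group) _ hd (by
      rw [mul_inv_rev (t * (r * x) * t⁻¹), inv_inv, inv_self er]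
      calc _ = r * x * (t * (r * x) * t⁻¹) * (r * x * (r * x)) := by group
        _ = r * x * (t * (r * x)⁻¹ * t⁻¹) := by rw [er, inv_self er]; group
        _ = _ := by group) with e | e
    · exact Or.inl (mul_inv_eq_one.1 e)
    · exact Or.inr (by rw [← e]; group)
  have hinv : ∀ s ∈ S, s ∉ R → s * y * s⁻¹ = y⁻¹ := fun s hs hsR =>
    (hTy s (hST hs)).resolve_left fun e => hsR (hCy s hs e)
  refine ⟨R, z, y, hRS, hTR, ?_, hyR, y2, z1, z2, hzT', hu, hTy, hinv, INV, s, hs, hsR, s2⟩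
  rw [relIndex_eq_two_iff]
  refine ⟨s, hs, fun c hc => ?_⟩
  by_cases hcR : c ∈ R
  · right; exact ⟨hcR, fun h => hsR (by simpa using mul_mem (inv_mem hcR) h)⟩
  · left
    refine ⟨hCy _ (mul_mem hc hs) ?_, hcR⟩
    calc c * s * y * (c * s)⁻¹ = c * (s * y * s⁻¹) * c⁻¹ := by group
      _ = (c * y * c⁻¹)⁻¹ := by rw [hinv s hs hsR]; group
      _ = y := by rw [hinv c hc hcR, inv_inv]

theorem no_idx2 {X : Type*} [Group X] (h : layer X = ⊤) (M : Subgroup X) : M.index ≠ 2 := by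
  intro hM
  have : layer X ≤ M := by
    refine sSup_le fun K hK => ?_
    rw [← H10.QS.perfect hK.2, commutator_le]
    intro a _ b _
    rw [commutatorElement_def, mul_mem_iff_of_index_two hM, mul_mem_iff_of_index_two hM,
      mul_mem_iff_of_index_two hM, inv_mem_iff, inv_mem_iff]
    tauto
  rw [h, top_le_iff] at this
  rw [this, index_top] at hM
  omega

theorem r1_main {A U Γ : Subgroup G} (hA : layer A = ⊤) (hU : IsKleinFour U) (hUA : U ≤ N⟦A⟧)
    (hΓ : ∀ u ∈ U, u ≠ 1 → A ⊓ C₁⟦u⟧ ≤ Γ) (h1 : R1 Γ) : R1 A := by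
  by_contra hn
  have hU2 : IsPGroup 2 U := fun x => ⟨1, Subtype.ext (by simpa [pow_two] using k4_sq hU x.2)⟩
  set G0 := A ⊔ U with hG0
  have hAn : A ⊴ G0 := ⟨le_sup_left, sup_le le_normalizer hUA⟩
  obtain ⟨T, hT, hUT⟩ := exists_sylowOf_ge (p := 2) hU2 (le_sup_right : U ≤ G0)
  have hS := hT.inf_normalIn hAn
  set S := T ⊓ A with hSdef
  have hS1 : ¬ R1 S := by
    intro h
    apply hn
    intro a ha b hb a2 b2 hab
    have k := cl2 a2 b2 hab
    obtain ⟨g, -, hle⟩ := hS.exists_cj_le (Q := closure {a, b})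
      (fun x => ⟨1, Subtype.ext (by simpa [pow_two] using (k x x.2).1)⟩)
      ((closure_le _).2 (by rintro x (rfl | rfl); exacts [ha, hb]))
    have sq : ∀ x : G, x * x = 1 → g * x * g⁻¹ * (g * x * g⁻¹) = 1 := fun x hx => by
      calc _ = g * (x * x) * g⁻¹ := by group
        _ = 1 := by rw [hx]; group
    have := h _ (hle (conj_mem_cj_of_mem (subset_closure (by simp : a ∈ ({a, b} : Set G))) g))
      _ (hle (conj_mem_cj_of_mem (subset_closure (by simp : b ∈ ({a, b} : Set G))) g)) (sq a a2) (sq b b2) (by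
        calc _ = g * (a * b) * g⁻¹ := by group
          _ = _ := by rw [hab]; group)
    simpa using this
  obtain ⟨u1, hu1, u2, hu2, u11, u21, u12⟩ : ∃ u1 ∈ U, ∃ u2 ∈ U, u1 ≠ 1 ∧ u2 ≠ 1 ∧ u1 * u2 ≠ 1 := by
    classical
    haveI := Fintype.ofFinite U
    have : 2 < Fintype.card U := by rw [IsKleinFour.card_four']; norm_num
    obtain ⟨a, b, c, hab, hac, hbc⟩ := Fintype.two_lt_card_iff.1 this
    refine ⟨a * b, mul_mem a.2 b.2, a * c, mul_mem a.2 c.2, fun e => hab ?_, fun e => hac ?_, fun e => hbc ?_⟩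
    · exact Subtype.ext (mul_left_cancel ((k4_sq hU a.2).trans e.symm))
    · exact Subtype.ext (mul_left_cancel ((k4_sq hU a.2).trans e.symm))
    · have := mul_left_cancel ((k4_sq hU (mul_mem a.2 b.2)).trans e.symm)
      exact Subtype.ext (mul_left_cancel this)
  have hpick : ∀ x x' : G, (∀ t ∈ T, t * x * t⁻¹ = x ∨ t * x * t⁻¹ = x') → (∀ t ∈ T, t * x * t⁻¹ = x' →
      t * x' * t⁻¹ = x) → ∃ u ∈ U, u ≠ 1 ∧ u * x * u⁻¹ = x := by
    intro x x' h h'
    rcases h u1 (hUT hu1) with e1 | e1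
    · exact ⟨u1, hu1, u11, e1⟩
    rcases h u2 (hUT hu2) with e2 | e2
    · exact ⟨u2, hu2, u21, e2⟩
    refine ⟨u1 * u2, mul_mem hu1 hu2, u12, ?_⟩
    calc u1 * u2 * x * (u1 * u2)⁻¹ = u1 * (u2 * x * u2⁻¹) * u1⁻¹ := by group
      _ = x := by rw [e2, h' u1 (hUT hu1) e1]
  have hcon : ∀ u ∈ U, u ≠ 1 → ∀ z ∈ S, ∀ x ∈ S, z * z = 1 → x * x = 1 → z ≠ 1 → x ≠ 1 → x ≠ z →
      (∀ t ∈ T, t * z = z * t) → u * x * u⁻¹ = x → False := by
    intro u hu u1 z hz x hx z2 x2 z1 x1 xz hzT e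
    have := h1 x (hΓ u hu u1 ⟨hx.2, mem_centralizer_singleton_iff.2 (by
      calc x * u = u * x * u⁻¹ * u := by rw [e]
        _ = u * x := by group)⟩) z (hΓ u hu u1 ⟨hz.2, mem_centralizer_singleton_iff.2 (hzT u (hUT hu)).symm⟩)
      x2 z2 (hzT x hx.1)
    tauto
  obtain ⟨R, z, y, hRS, hTR, hidx, hyR, y2, z1, z2, hzT, hu, hTy, hinv, INV, s, hs, hsR, s2⟩ :=
    maxclass hT.isPGroup (inf_le_left : S ≤ T) (norm_inf le_normalizer (hT.1.trans hAn.2)) hS1 (by
      intro z hz x hx z2 x2 z1 x1 xz hzT hx'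
      obtain ⟨u, hu, u1, e⟩ := hpick x (z * x) hx' (fun t ht e => by
        calc t * (z * x) * t⁻¹ = (t * z) * t⁻¹ * (t * x * t⁻¹) := by group
          _ = (z * z) * x := by rw [hzT t ht, e]; group
          _ = x := by rw [z2, one_mul])
      exact hcon u hu u1 z hz x hx z2 x2 z1 x1 xz hzT e)
  have hzR : z ∈ R := y2 ▸ mul_mem hyR hyR
  obtain ⟨u, huU, u1, huy⟩ := hpick y y⁻¹ hTy (fun t _ e => by rw [← conj_inv, e, inv_inv])
  have u2 := k4_sq hU huU
  have hs' : u * s * u⁻¹ ∈ S := nconj (norm_inf le_normalizer (hT.1.trans hAn.2) (hUT huU)) hs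
  have hs'R : u * s * u⁻¹ ∉ R := fun h => hsR (by simpa [mul_assoc] using nconj' (hTR (hUT huU)) h)
  have hc : u * s * u⁻¹ * s ∈ R := by
    have := mul_mem_iff_of_index_two (H := R.subgroupOf S) hidx (a := ⟨_, hs'⟩) (b := ⟨s, hs⟩)
    exact this.2 ⟨fun h => absurd h hs'R, fun h => absurd h hsR⟩
  have s1 : s ≠ 1 := fun e => hsR (e ▸ one_mem _)
  have sz : s ≠ z := fun e => hsR (e ▸ hzR)
  have hus : u * s * u⁻¹ = z * s := by
    rcases INV u huy _ hc (by
      calc u * (u * s * u⁻¹ * s) * u⁻¹ = (u * u) * s * (u * u)⁻¹ * (u * s * u⁻¹) := by group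
        _ = s⁻¹ * (u * s⁻¹ * u⁻¹) := by rw [u2, inv_self s2]; group
        _ = _ := by group) with e | e
    · exact (hcon u huU u1 z (hRS hzR) s hs z2 s2 z1 s1 sz hzT
        (by rw [eq_inv_of_mul_eq_one_left e, inv_self s2])).elim
    · rw [← e, mul_assoc _ s s, s2, mul_one]
  set w := u * y with hw
  have hws : w * s = s * w := by
    have e1 := hinv s hs hsR
    calc w * s = (u * y * u⁻¹) * (u * s * u⁻¹) * u := by rw [hw]; group
      _ = y * (y * y) * s * u := by rw [huy, hus, y2]; group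
      _ = (y * y) * (y * y) * y⁻¹ * s * u := by group
      _ = s * (y * u) := by rw [y2, z2, ← e1]; group
      _ = s * (u * y * u⁻¹ * u) := by rw [huy]
      _ = s * w := by rw [hw]; group
  have hww : w * w = z := by
    calc w * w = (u * y * u⁻¹) * (u * u) * y := by rw [hw]; group
      _ = z := by rw [huy, u2, mul_one, y2]
  obtain ⟨g, hgA, hg⟩ : ∃ g ∈ A, g * s * g⁻¹ ∈ R := by
    have hi : (R.subgroupOf A).index % 4 = 2 := by
      have e1 : R.relIndex S * S.relIndex A = R.relIndex A := relIndex_mul_relIndex _ _ _ hRS inf_le_right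
      have e2 := hS.not_dvd
      change R.relIndex A % 4 = 2
      rw [hidx] at e1
      omega
    rcases H11.thompson_transfer hi (u := ⟨s, hs.2⟩) (Subtype.ext s2) with ⟨M, hM, -⟩ | ⟨g, hg⟩
    · exact absurd hM (no_idx2 hA M)
    · exact ⟨g, g.2, hg⟩
  have hgs : g * s * g⁻¹ = z := (hu _ hg (by
    calc _ = g * (s * s) * g⁻¹ := by group
      _ = 1 := by rw [s2]; group)).resolve_left fun e => s1 (by simpa using e)
  have hT1 : SylowOf 2 T (G0 ⊓ C₁⟦z⟧) :=
    hT.of_le (le_inf hT.1 fun t ht => mem_centralizer_singleton_iff.2 (hzT t ht)) inf_le_left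
  have hwT : w ∈ T := mul_mem (hUT huU) (hRS hyR).1
  obtain ⟨c, hc, hle⟩ := hT1.exists_cj_le (Q := cj g (zpowers w))
    (H21.isPGroup_cj.2 (hT.isPGroup.to_le (zpowers_le.2 hwT))) (by
      rw [cj_zpowers, zpowers_le]
      refine ⟨nconj (le_normalizer (hAn.1 hgA)) (hT.1 hwT), mem_centralizer_singleton_iff.2 ?_⟩
      rw [← hgs]
      calc _ = g * (w * s) * g⁻¹ := by group
        _ = _ := by rw [hws]; group)
  rw [cj_cj, cj_zpowers, zpowers_le] at hle
  set k := c * g with hk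
  have hks : k * s * k⁻¹ = z := by
    calc k * s * k⁻¹ = c * (g * s * g⁻¹) * c⁻¹ := by rw [hk]; group
      _ = z := by rw [hgs, mem_centralizer_singleton_iff.1 hc.2]; group
  set v := k * w * k⁻¹ with hv
  have hvv : v * v = k * z * k⁻¹ := by rw [hv, ← hww]; group
  have hvS : v * v ∈ S := ⟨mul_mem hle hle, by
    rw [hvv]; exact nconj (hAn.2 (mul_mem hc.1 (hAn.1 hgA))) (hRS hzR).2⟩
  have hvR : v * v ∉ R := by
    intro h
    rcases hu _ h (by
      rw [hvv]
      calc _ = k * (z * z) * k⁻¹ := by group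
        _ = 1 := by rw [z2]; group) with e | e
    · rw [hvv] at e; exact z1 (by simpa using e)
    · rw [hvv] at e
      exact sz (by simpa using hks.trans e.symm)
  have e1 := hinv _ hvS hvR
  have e2 : v * v * y * (v * v)⁻¹ = y := by
    calc _ = v * (v * y * v⁻¹) * v⁻¹ := by group
      _ = y := by
        rcases hTy v hle with e | e
        · rw [e, e]
        · rw [e, ← conj_inv, e, inv_inv]
  apply z1
  rw [← y2]
  nth_rewrite 1 [← e2]
  rw [e1, inv_mul_cancel]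

theorem classical_inv {X : Type*} [Group X] [Finite X] (hX : IsQuasisimple X) (heven : Even (Nat.card X))
    (hrk : PRankLE 2 1 X) : ∃ t ∈ center X, orderOf t = 2 ∧
      ∃ S : Sylow 2 X, ∃ n : ℕ, Nonempty ((S : Subgroup X) ≃* QuaternionGroup (2 ^ (n + 1))) := by
  obtain ⟨hp, -, hn⟩ := H10.isQuasisimple_iff.1 hX
  obtain ⟨S⟩ : Nonempty (Sylow 2 X) := inferInstance
  have hS1 : (S : Subgroup X) ≠ ⊥ := S.ne_bot_of_dvd_card (even_iff_two_dvd.1 heven)
  have h1 : R1 (⊤ : Subgroup X) := r1_iff.1 fun A hA hA2 => by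
    have := hrk (A.map (⊤ : Subgroup X).subtype) inferInstance (by
      rintro _ ⟨a, ha, rfl⟩
      rw [← map_pow, hA2 a ha, map_one])
    rwa [card_map_of_injective (subtype_injective _)] at this
  obtain ⟨z, ⟨hzS, hzc⟩, z1, z2⟩ := ex_inv (S.isPGroup'.to_le inf_le_left)
    (inf_cent_ne_bot_of_pgroup S.isPGroup' S.isPGroup' le_normalizer hS1)
  have hu : ∀ a ∈ (S : Subgroup X), a * a = 1 → a = 1 ∨ a = z := fun a ha a2 => by
    have := h1 a trivial z trivial a2 z2 (mem_centralizer_iff.1 hzc a ha)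
    tauto
  have hoz : orderOf z = 2 := orderOf_eq_prime (by rw [pow_two, z2]) z1
  refine ⟨z, ?_, hoz, S, ?_⟩
  · obtain ⟨N, hN, hodd, hcm⟩ := S0215.result S z hoz hzS fun g hg => (hu _ hg (by
      calc _ = g * (z * z) * g⁻¹ := by group
        _ = 1 := by rw [z2]; group)).resolve_left fun e => z1 (by simpa using e)
    rcases hn N hN with h | h
    · refine mem_center_iff.2 fun g => ?_
      have h2 := mem_center_iff.1 (h (hcm g)) z
      have h3 : z * g * z⁻¹ * g⁻¹ = 1 := by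
        refine orderOf_eq_one_iff.1 ((Nat.coprime_two_right.2 (Odd.of_dvd_nat hodd
          (orderOf_dvd_card_of_mem (hcm g)))).eq_one_of_dvd (orderOf_dvd_of_pow_eq_one ?_))
        calc _ = z⁻¹ * (z * (z * g * z⁻¹ * g⁻¹)) * (z * g * z⁻¹ * g⁻¹) := by rw [pow_two]; group
          _ = z⁻¹ * ((z * g * z⁻¹ * g⁻¹) * z) * (z * g * z⁻¹ * g⁻¹) := by rw [h2]
          _ = g * z⁻¹ * g⁻¹ * (z * z) * g * z⁻¹ * g⁻¹ := by group
          _ = g * (z * z)⁻¹ * g⁻¹ := by nth_rewrite 1 [z2]; group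
          _ = 1 := by rw [z2]; group
      calc g * z = (z * g * z⁻¹ * g⁻¹)⁻¹ * (z * g) := by group
        _ = z * g := by rw [h3]; simp
    · rw [h, card_top] at hodd
      exact absurd heven (Nat.not_even_iff_odd.2 hodd)
  rcases H1.isCyclic_or_quaternion S.isPGroup' (fun x y hx hy => by
    have x2 : (x : X) * x = 1 := by
      have := pow_orderOf_eq_one x
      rw [hx, pow_two] at this
      exact congrArg Subtype.val this
    have x1 : (x : X) ≠ 1 := fun e => by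
      have : x = 1 := Subtype.ext e
      rw [this, orderOf_one] at hx; omega
    have y2 : (y : X) * y = 1 := by rw [pow_two] at hy; exact congrArg Subtype.val hy
    rcases hu y y.2 y2 with e | e
    · have : y = 1 := Subtype.ext e
      rw [this]; exact one_mem _
    · have : y = x := Subtype.ext (e.trans ((hu x x.2 x2).resolve_left x1).symm)
      rw [this]; exact mem_zpowers x) with h | ⟨-, n, hn, he⟩
  · exfalso
    have hm := (Nat.minFac_eq_two_iff _).2 (even_iff_two_dvd.1 heven)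
    have hc := h.isComplement' hm
    haveI : IsMulCommutative (S : Subgroup X) := comm_of_cyclic h
    have : (MonoidHom.transferSylow S (h.normalizer_le_centralizer hm)).ker = ⊤ := by
      rw [eq_top_iff, ← hp.commutator_eq_top, _root_.commutator_def, commutator_le]
      intro a _ b _
      rw [MonoidHom.mem_ker, map_commutatorElement, commutatorElement_eq_one_iff_mul_comm]
      exact mul_comm' _ _
    have hd := hc.disjoint
    rw [this, top_disjoint] at hd
    exact hS1 hd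
  · obtain ⟨m, rfl⟩ := Nat.exists_eq_add_of_le' hn
    exact ⟨m, he⟩

end Cfsg.Agent.H15T
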