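import Cfsg.Agent.BG.S01b
import Cfsg.Prelude.Def_CaseTheorems

/-! A normal four-group of a Sylow 2-subgroup centralizes the odd order subgroups it normalizes
(characteristic 2 type). -/

set_option autoImplicit false

namespace Cfsg.Agent.H15T

open Subgroup Cfsg.Agent.H20 Cfsg.Agent.H21 Cfsg.Agent.BG
open scoped commutatorElement

variable {G : Type*} [Group G] [Finite G]

omit [Finite G] in
theorem k4_sq {U : Subgroup G} (h : IsKleinFour U) {x : G} (hx : x ∈ U) : x * x = 1 := by
  have := IsKleinFour.mul_self (⟨x, hx⟩ : U)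
  exact congrArg Subtype.val this

omit [Finite G] in
theorem k4_eq {U : Subgroup G} (h : IsKleinFour U) {x y z : G} (hx : x ∈ U) (hy : y ∈ U) (hz : z ∈ U)
    (x1 : x ≠ 1) (y1 : y ≠ 1) (xy : x ≠ y) (z1 : z ≠ 1) (zx : z ≠ x) (zy : z ≠ y) : z = x * y := by
  have := IsKleinFour.eq_mul_of_ne_all (G := U) (x := ⟨x, hx⟩) (y := ⟨y, hy⟩) (z := ⟨z, hz⟩)
    (fun e => x1 (congrArg Subtype.val e)) (fun e => y1 (congrArg Subtype.val e))
    (fun e => xy (congrArg Subtype.val e)) (fun e => z1 (congrArg Subtype.val e))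
    (fun e => zx (congrArg Subtype.val e)) (fun e => zy (congrArg Subtype.val e))
  exact congrArg Subtype.val this

omit [Finite G] in
theorem k4_comm {U : Subgroup G} (h : IsKleinFour U) {x y : G} (hx : x ∈ U) (hy : y ∈ U) : x * y = y * x := by
  have h1 := k4_sq h hx
  have h2 := k4_sq h hy
  have h3 := k4_sq h (U.mul_mem hx hy)
  have hx' : x⁻¹ = x := inv_eq_of_mul_eq_one_right h1
  have hy' : y⁻¹ = y := inv_eq_of_mul_eq_one_right h2
  have : (x * y)⁻¹ = x * y := inv_eq_of_mul_eq_one_right h3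
  rw [mul_inv_rev, hx', hy'] at this
  exact this.symm

/-- an element normalizing `U` and centralizing `u ∈ U#` moves the elements of `U` by `⟨u⟩` only -/
theorem k4_move {U : Subgroup G} (h : IsKleinFour U) {u x v : G} (hu : u ∈ U) (u1 : u ≠ 1)
    (hx : x ∈ N⟦U⟧) (hxu : x * u * x⁻¹ = u) (hv : v ∈ U) : x * v * x⁻¹ = v ∨ x * v * x⁻¹ = u * v := by
  by_cases v1 : v = 1
  · left; simp [v1]
  by_cases vu : v = u
  · left; rw [vu, hxu]
  by_cases e : x * v * x⁻¹ = v
  · exact Or.inl e
  right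
  refine k4_eq h hu hv ((mem_normalizer_iff.1 hx v).1 hv) u1 v1 (Ne.symm vu) ?_ ?_ e
  · intro e1; apply v1
    calc v = x⁻¹ * (x * v * x⁻¹) * x := by group
      _ = 1 := by rw [e1]; group
  · intro e1; apply vu
    calc v = x⁻¹ * (x * v * x⁻¹) * x := by group
      _ = x⁻¹ * (x * u * x⁻¹) * x := by rw [e1, hxu]
      _ = u := by group

theorem cyc_invol {Z : Subgroup G} (hZ : IsCyclic Z) {x y : G} (hx : x ∈ Z) (hy : y ∈ Z) (x2 : x * x = 1)
    (y2 : y * y = 1) (x1 : x ≠ 1) (y1 : y ≠ 1) : x = y := by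
  classical
  by_contra hne
  haveI := Fintype.ofFinite Z
  have h := IsCyclic.card_pow_eq_one_le (α := Z) (n := 2) (by norm_num)
  have hs : ({1, ⟨x, hx⟩, ⟨y, hy⟩} : Finset Z) ⊆ Finset.univ.filter (fun a : Z => a ^ 2 = 1) := by
    intro a ha
    simp only [Finset.mem_insert, Finset.mem_singleton] at ha
    rcases ha with rfl | rfl | rfl
    · simp
    · simp only [Finset.mem_filter, Finset.mem_univ, true_and]; ext; simpa [pow_two] using x2
    · simp only [Finset.mem_filter, Finset.mem_univ, true_and]; ext; simpa [pow_two] using y2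
  have hc := Finset.card_le_card hs
  rw [Finset.card_insert_of_notMem, Finset.card_pair] at hc
  · omega
  · intro e; exact hne (congrArg Subtype.val e)
  · simp only [Finset.mem_insert, Finset.mem_singleton, not_or]
    exact ⟨fun e => x1 (congrArg Subtype.val e).symm, fun e => y1 (congrArg Subtype.val e).symm⟩

/-- the local step -/
theorem loc {C Q U K : Subgroup G} {u : G} (u2 : u * u = 1) (hC : C ≤ C₁⟦u⟧) (hQ : Q ⊴ C) (hQ2 : IsPGroup 2 Q)
    (hc : C ⊓ C⟦Q⟧ ≤ Q) (hU : U ≤ C) (hK : K ≤ C) (hodd : (♯K).Coprime 2) (hUK : U ≤ N⟦K⟧)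
    (h : ⁅U, Q⁆ ≤ zpowers u) : U ≤ C⟦K⟧ := by
  set Z := zpowers u with hZ
  have hCZ : C ≤ N⟦Z⟧ := hC.trans (cent1_le_norm_zpowers u)
  have hZ2 : IsPGroup 2 Z := by
    rw [hZ]
    refine IsPGroup.of_card_dvd_pow (n := 1) ?_
    rw [Nat.card_zpowers, pow_one]
    exact orderOf_dvd_of_pow_eq_one (by rw [pow_two, u2])
  set A := ⁅K, U⁆ with hA
  have hAK : A ≤ K := commg_le_left hUK
  have h1 : quo U Z ≤ C⟦quo Q Z⟧ := (quo_le_cent_iff (hU.trans hCZ) (hQ.1.trans hCZ)).2 h
  have h2 : quo K Z ≤ N⟦C⟦quo Q Z⟧⟧ := (quo_norm Z (hK.trans hQ.2)).trans (norm_le_norm_cent _)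
  have h3 : quo A Z ≤ C⟦quo Q Z⟧ := by
    rw [hA, quo_commg (hK.trans hCZ) (hU.trans hCZ)]
    exact (commutator_mono le_rfl h1).trans (commg_le_right h2)
  have h4 : ⁅A, Q⁆ ≤ Z := (quo_le_cent_iff ((hAK.trans hK).trans hCZ) (hQ.1.trans hCZ)).1 h3
  have hAo : (♯A).Coprime 2 := coprime_of_le_left hodd hAK
  have h5 : A ≤ C⟦Q⟧ := by
    refine coprime_cent_of_stable (N := Z) (coprime_of_isPGroup hZ2 hAo) (by rwa [commutator_comm]) ?_
    exact le_centralizer_iff.1 (zpowers_le_cent_iff.2 (mem_centralizer_iff.2 fun a ha =>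
      mem_centralizer_singleton_iff.1 (hC (hK (hAK ha)))))
  have h6 : A ≤ Q := (le_inf (hAK.trans hK) h5).trans hc
  have h7 : A = ⊥ := by
    have := inf_eq_bot_coprime (coprime_of_isPGroup hQ2 hAo)
    rwa [inf_eq_right.2 h6] at this
  exact commg_eq_bot'.1 h7

theorem main (h2 : IsCharacteristicTwoType G) (P : Sylow 2 G) {U : Subgroup G} (hUP : U ≤ (P : Subgroup G))
    (hUn : (P : Subgroup G) ≤ N⟦U⟧) (hU4 : IsKleinFour U)
    (hUZ : ¬ IsCyclic ↥((P : Subgroup G) ⊓ C⟦(P : Subgroup G)⟧) → U ≤ C⟦(P : Subgroup G)⟧)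
    {K : Subgroup G} (hK : Odd (♯K)) (hUK : U ≤ N⟦K⟧) : U ≤ C⟦K⟧ := by
  classical
  have hP2 : IsPGroup 2 (P : Subgroup G) := P.isPGroup'
  have hU2 : IsPGroup 2 U := hP2.to_le hUP
  have hKc : (♯K).Coprime 2 := Nat.coprime_two_right.2 hK
  have hUc : IsMulCommutative U := IsKleinFour.isMulCommutative
  refine le_centralizer_iff.1 (coprime_abelian_gen_cent1 hUc IsKleinFour.not_isCyclic hUK
    (coprime_of_isPGroup hU2 hKc).symm fun u hu u1 => le_centralizer_iff.1 ?_)
  have u2 := k4_sq hU4 hu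
  have hou : orderOf u = 2 := orderOf_eq_prime (by rw [pow_two, u2]) u1
  set C := C₁⟦u⟧ with hCdef
  have hUC : U ≤ C := fun v hv => mem_centralizer_singleton_iff.2 (k4_comm hU4 hv hu)
  have hNC : N⟦zpowers u⟧ = C := by
    refine le_antisymm (fun x hx => ?_) (cent1_le_norm_zpowers u)
    have h1 : x * u * x⁻¹ ∈ zpowers u := (mem_normalizer_iff.1 hx u).1 (mem_zpowers u)
    rw [mem_zpowers_iff_mem_range_orderOf, hou] at h1
    simp only [Finset.mem_image, Finset.mem_range] at h1
    obtain ⟨k, hk, e⟩ := h1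
    interval_cases k
    · exfalso; apply u1
      calc u = x⁻¹ * (x * u * x⁻¹) * x := by group
        _ = 1 := by rw [← e]; group
    · rw [pow_one] at e
      refine mem_centralizer_singleton_iff.2 ?_
      calc x * u = x * u * x⁻¹ * x := by group
        _ = u * x := by rw [← e]
  have hZ2 : IsPGroup 2 (zpowers u) := hU2.to_le (zpowers_le.2 hu)
  have hch := h2.2 (zpowers u) hZ2 (by simpa using u1)
  rw [hNC] at hch
  set Q := piCoreOf {2} C with hQ
  have hQn : Q ⊴ C := piCoreOf_normalIn _ _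
  have hQ2 : IsPGroup 2 Q := isPGroup_piCoreOf 2 _
  have hc : C ⊓ C⟦Q⟧ ≤ Q := by
    rintro x ⟨hx, hx'⟩
    rw [hQ, ← map_pCore] at hx' ⊢
    refine ⟨⟨x, hx⟩, hch (mem_centralizer_iff.2 fun y hy => Subtype.ext ?_), rfl⟩
    exact mem_centralizer_iff.1 hx' y ⟨y, hy, rfl⟩
  set T := (P : Subgroup G) ⊓ C with hT
  obtain ⟨T', hT', hTT'⟩ := exists_sylowOf_ge (p := 2) (hP2.to_le (inf_le_left : T ≤ P)) (inf_le_right : T ≤ C)
  have hT'2 : IsPGroup 2 T' := hT'.isPGroup
  have hQT' : Q ≤ T' := hT'.piCoreOf_le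
  -- `T'` normalizes `U`
  have key : T' ≤ N⟦U⟧ := by
    by_cases hPC : (P : Subgroup G) ≤ C
    · have e : T = P := inf_eq_left.2 hPC
      have hTT'' : (P : Subgroup G) ≤ T' := e ▸ hTT'
      rw [P.is_maximal' hT'2 hTT'']
      exact hUn
    have hcyc : IsCyclic ↥((P : Subgroup G) ⊓ C⟦(P : Subgroup G)⟧) := by
      by_contra hn
      exact hPC fun x hx => mem_centralizer_singleton_iff.2 (mem_centralizer_iff.1 (hUZ hn hu) x hx)
    obtain ⟨z, ⟨hzU, hzP⟩, z1⟩ : ∃ z ∈ U ⊓ C⟦(P : Subgroup G)⟧, z ≠ 1 := by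
      have := inf_cent_ne_bot_of_pgroup hU2 hP2 hUn (fun e => u1 (by rw [e] at hu; exact hu))
      exact (ne_bot_iff_exists_ne_one.1 this).elim fun a ha => ⟨a.1, a.2, fun e => ha (Subtype.ext e)⟩
    have z2 := k4_sq hU4 hzU
    have hzx : ∀ x ∈ (P : Subgroup G), x * z * x⁻¹ = z := fun x hx => by
      rw [mem_centralizer_iff.1 hzP x hx]; group
    obtain ⟨p, hp, hpC⟩ := SetLike.not_le_iff_exists.1 hPC
    have hmv : ∀ x ∈ (P : Subgroup G), x ∉ C → x * u * x⁻¹ = z * u := by
      intro x hx hxC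
      rcases k4_move hU4 hzU z1 (hUn hx) (hzx x hx) hu with e | e
      · exfalso; apply hxC
        refine mem_centralizer_singleton_iff.2 ?_
        calc x * u = x * u * x⁻¹ * x := by group
          _ = u * x := by rw [e]
      · exact e
    have hmul : ∀ x ∈ (P : Subgroup G), x ∉ C → x * p ∈ C := by
      intro x hx hxC
      refine mem_centralizer_singleton_iff.2 ?_
      have e1 := hmv x hx hxC
      have e2 := hmv p hp hpC
      have e3 := hzx x hx
      calc x * p * u = x * (p * u * p⁻¹) * p := by group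
        _ = (x * z * x⁻¹) * (x * u * x⁻¹) * (x * p) := by rw [e2]; group
        _ = (z * z) * u * (x * p) := by rw [e3, e1]; group
        _ = u * (x * p) := by rw [z2, one_mul]
    have hidx : T.relIndex P = 2 := by
      rw [hT, inf_relIndex_left, relIndex_eq_two_iff]
      refine ⟨p, hp, fun b hb => ?_⟩
      by_cases hbC : b ∈ C
      · right; refine ⟨hbC, fun h => hpC ?_⟩
        have := C.mul_mem (C.inv_mem hbC) h
        simpa using this
      · left; exact ⟨hmul b hb hbC, hbC⟩
    have hT'N : T' ≤ N⟦T⟧ := by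
      have hd : ♯T' ∣ ♯(P : Subgroup G) := (sylowOf_top P).pgroup_card_dvd hT'2 le_top
      have e1 : ♯T * T.relIndex T' = ♯T' := card_mul_relIndex hTT'
      have e2 : ♯T * T.relIndex P = ♯(P : Subgroup G) := card_mul_relIndex inf_le_left
      rw [← e1, ← e2, hidx] at hd
      have hd' := Nat.dvd_of_mul_dvd_mul_left Nat.card_pos hd
      rcases (Nat.dvd_prime Nat.prime_two).1 hd' with e | e
      · exact (relIndex_eq_one.1 e).trans le_normalizer
      · have hn : (T.subgroupOf T').Normal := normal_of_index_eq_two e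
        exact (NormalIn.of_subgroupOf_normal hTT' hn).2
    have hUT : ∀ v ∈ U, ∀ t ∈ T, t * v = v * t := by
      intro v hv t ht
      have htu : t * u * t⁻¹ = u := by
        rw [mem_centralizer_singleton_iff.1 ht.2]; group
      have hzu : z ≠ u := fun e => hpC (mem_centralizer_singleton_iff.2 (by
        rw [← e]; exact mem_centralizer_iff.1 hzP p hp))
      have : t * v * t⁻¹ = v := by
        by_cases v1 : v = 1
        · simp [v1]
        by_cases vz : v = z
        · rw [vz, hzx t ht.1]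
        by_cases vu : v = u
        · rw [vu, htu]
        rw [k4_eq hU4 hzU hu hv z1 u1 hzu v1 vz vu]
        calc t * (z * u) * t⁻¹ = (t * z * t⁻¹) * (t * u * t⁻¹) := by group
          _ = z * u := by rw [hzx t ht.1, htu]
      calc t * v = t * v * t⁻¹ * t := by group
        _ = v * t := by rw [this]
    -- involutions of `Z(T)` fixed by `p`
    have hfix : ∀ w ∈ T, (∀ t ∈ T, t * w = w * t) → w * w = 1 → p * w * p⁻¹ = w → w ∈ U := by
      intro w hw hwc w2 hwp
      by_cases w1 : w = 1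
      · rw [w1]; exact U.one_mem
      have hwZ : w ∈ (P : Subgroup G) ⊓ C⟦(P : Subgroup G)⟧ := by
        refine ⟨hw.1, mem_centralizer_iff.2 fun x hx => ?_⟩
        by_cases hxC : x ∈ C
        · exact hwc x ⟨hx, hxC⟩
        · have e := hwc (x * p) ⟨(P : Subgroup G).mul_mem hx hp, hmul x hx hxC⟩
          calc x * w = x * (p * w * p⁻¹) := by rw [hwp]
            _ = (x * p * w) * p⁻¹ := by group
            _ = w * x := by rw [e]; group
      rw [cyc_invol hcyc hwZ ⟨hUP hzU, hzP⟩ w2 z2 w1 z1]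
      exact hzU
    have hpT : ∀ t ∈ T, p * t * p⁻¹ ∈ T := by
      have hn : (T.subgroupOf P).Normal := normal_of_index_eq_two hidx
      have := (NormalIn.of_subgroupOf_normal (inf_le_left : T ≤ P) hn).2 hp
      exact fun t ht => (mem_normalizer_iff.1 this t).1 ht
    have hpT' : ∀ t ∈ T, p⁻¹ * t * p ∈ T := by
      have hn : (T.subgroupOf P).Normal := normal_of_index_eq_two hidx
      have := (NormalIn.of_subgroupOf_normal (inf_le_left : T ≤ P) hn).2 ((P : Subgroup G).inv_mem hp)
      intro t ht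
      have h' := (mem_normalizer_iff.1 this t).1 ht
      rwa [inv_inv] at h'
    have hall : ∀ w ∈ T, (∀ t ∈ T, t * w = w * t) → w * w = 1 → w ∈ U := by
      intro w hw hwc w2
      set w' := p * w * p⁻¹ with hw'
      have hw'T : w' ∈ T := hpT w hw
      have hw'c : ∀ t ∈ T, t * w' = w' * t := fun t ht => by
        have := hwc _ (hpT' t ht)
        calc t * w' = p * (p⁻¹ * t * p * w) * p⁻¹ := by rw [hw']; group
          _ = w' * t := by rw [this, hw']; group
      have w'2 : w' * w' = 1 := by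
        calc w' * w' = p * (w * w) * p⁻¹ := by rw [hw']; group
          _ = 1 := by rw [w2]; group
      have hpp : p * w' * p⁻¹ = w := by
        have := hwc (p * p) ⟨(P : Subgroup G).mul_mem hp hp, hmul p hp hpC⟩
        calc p * w' * p⁻¹ = (p * p * w) * (p * p)⁻¹ := by rw [hw']; group
          _ = w := by rw [this]; group
      have hww : w * w' = w' * w := hw'c w hw
      have hZ : w * w' ∈ (P : Subgroup G) ⊓ C⟦(P : Subgroup G)⟧ := by
        refine ⟨(T.mul_mem hw hw'T).1, mem_centralizer_iff.2 fun x hx => ?_⟩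
        have hfx : p * (w * w') * p⁻¹ = w * w' := by
          calc p * (w * w') * p⁻¹ = (p * w * p⁻¹) * (p * w' * p⁻¹) := by group
            _ = w * w' := by rw [hpp, ← hw', hww]
        have hcm : ∀ t ∈ T, t * (w * w') = w * w' * t := fun t ht => by
          rw [← mul_assoc, hwc t ht, mul_assoc, hw'c t ht, ← mul_assoc]
        by_cases hxC : x ∈ C
        · exact hcm x ⟨hx, hxC⟩
        · have e := hcm (x * p) ⟨(P : Subgroup G).mul_mem hx hp, hmul x hx hxC⟩
          calc x * (w * w') = x * (p * (w * w') * p⁻¹) := by rw [hfx]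
            _ = (x * p * (w * w')) * p⁻¹ := by group
            _ = w * w' * x := by rw [e]; group
      have sq : w * w' * (w * w') = 1 := by
        calc w * w' * (w * w') = w * (w' * w) * w' := by group
          _ = (w * w) * (w' * w') := by rw [← hww]; group
          _ = 1 := by rw [w2, w'2, one_mul]
      by_cases e1 : w * w' = 1
      · refine hfix w hw hwc w2 ?_
        change w' = w
        calc w' = (w * w) * w' := by rw [w2, one_mul]
          _ = w := by rw [mul_assoc, e1, mul_one]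
      · have e2 : w * w' = z := cyc_invol hcyc hZ ⟨hUP hzU, hzP⟩ sq z2 e1 z1
        have huT : u ∈ T := ⟨hUP hu, hUC hu⟩
        have hwu : w * u ∈ U := by
          refine hfix _ (T.mul_mem hw huT) (fun t ht => ?_) ?_ ?_
          · rw [← mul_assoc, hwc t ht, mul_assoc, hUT u hu t ht, mul_assoc]
          · calc w * u * (w * u) = w * (u * w) * u := by group
              _ = (w * w) * (u * u) := by rw [hwc u huT]; group
              _ = 1 := by rw [w2, u2, one_mul]
          · calc p * (w * u) * p⁻¹ = w' * (p * u * p⁻¹) := by rw [hw']; group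
              _ = w' * (w * w') * u := by rw [hmv p hp hpC, e2]; group
              _ = w * (w' * w') * u := by rw [← mul_assoc, ← hww]; group
              _ = w * u := by rw [w'2, mul_one]
        have := U.mul_mem hwu (U.inv_mem hu)
        simpa using this
    intro x hx
    have hxT := hT'N hx
    refine mem_norm_of_cj_le ?_
    rintro _ ⟨v, hv, rfl⟩
    have hvT : v ∈ T := ⟨hUP hv, hUC hv⟩
    change x * v * x⁻¹ ∈ U
    refine hall _ ((mem_normalizer_iff.1 hxT v).1 hvT) (fun t ht => ?_) ?_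
    · have ht' : x⁻¹ * t * x ∈ T := by
        have h' := (mem_normalizer_iff.1 (N⟦T⟧.inv_mem hxT) t).1 ht
        rwa [inv_inv] at h'
      have := hUT v hv _ ht'
      calc t * (x * v * x⁻¹) = x * (x⁻¹ * t * x * v) * x⁻¹ := by group
        _ = x * v * x⁻¹ * t := by rw [this]; group
    · calc x * v * x⁻¹ * (x * v * x⁻¹) = x * (v * v) * x⁻¹ := by group
        _ = 1 := by rw [k4_sq hU4 hv]; group
  refine loc (C := C) (Q := Q) u2 le_rfl hQn hQ2 hc hUC inf_le_right
    (coprime_of_le_left hKc inf_le_left) (norm_inf hUK (hUC.trans le_normalizer)) ?_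
  rw [commutator_comm, commutator_le]
  intro x hx v hv
  have hxu : x * u * x⁻¹ = u := by
    rw [mem_centralizer_singleton_iff.1 (hQn.1 hx)]; group
  rw [commutatorElement_def]
  rcases k4_move hU4 hu u1 (key (hQT' hx)) hxu hv with e | e
  · rw [e]; simp
  · rw [e]; simp

end Cfsg.Agent.H15T
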